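import Mathlib.RingTheory.AlgebraicIndependent.TranscendenceBasis
import Mathlib.FieldTheory.IsAlgClosed.AlgebraicClosure
import Mathlib.FieldTheory.IntermediateField.Adjoin.Basic
import Mathlib.FieldTheory.AlgebraicClosure
import Mathlib.RingTheory.Localization.FractionRing

/-!
# Transcendence degrees in composite fields
-/

set_option autoImplicit false
set_option linter.style.haveILetI false

namespace GrothLib.TrdegBC19

universe u

/-- A composite of `K` and `L` over `k` has transcendence degree over `L` at most `trdeg k K`. -/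
theorem trdeg_le_of_composite {k K L M : Type u} [Field k] [Field K] [Field L] [Field M]
    [Algebra k K] [Algebra k L] [Algebra L M] (i : K →+* M)
    (hi : i.comp (algebraMap k K) = (algebraMap L M).comp (algebraMap k L))
    (hgen : Subfield.closure (Set.range i ∪ Set.range (algebraMap L M)) = ⊤) :
    Algebra.trdeg L M ≤ Algebra.trdeg k K := by
  haveI : FaithfulSMul k K := (faithfulSMul_iff_algebraMap_injective _ _).mpr (algebraMap k K).injective
  haveI : FaithfulSMul L M := (faithfulSMul_iff_algebraMap_injective _ _).mpr (algebraMap L M).injective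
  obtain ⟨ι, b, hb⟩ := exists_isTranscendenceBasis' k K
  haveI := hb.isAlgebraic
  let S : Subalgebra L M := Algebra.adjoin L (Set.range (i ∘ b))
  letI algkM : Algebra k M := ((algebraMap L M).comp (algebraMap k L)).toAlgebra
  let iₐ : K →ₐ[k] M := ⟨i, fun r => RingHom.congr_fun hi r⟩
  have hmemS : ∀ z ∈ Algebra.adjoin k (Set.range b), i z ∈ S := by
    intro z hz
    induction hz using Algebra.adjoin_induction with
    | mem z hz =>
      obtain ⟨a, rfl⟩ := hz
      exact Algebra.subset_adjoin ⟨a, rfl⟩
    | algebraMap r => exact (iₐ.commutes r).symm ▸ S.algebraMap_mem _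
    | add x y _ _ hx hy => rw [map_add]; exact S.add_mem hx hy
    | mul x y _ _ hx hy => rw [map_mul]; exact S.mul_mem hx hy
  let r : Algebra.adjoin k (Set.range b) →+* S :=
    (i.comp (algebraMap (Algebra.adjoin k (Set.range b)) K)).codRestrict S fun z => hmemS z z.2
  have hinjr : Function.Injective r := fun a a' h =>
    Subtype.ext (i.injective (congrArg Subtype.val h))
  haveI : Algebra.IsAlgebraic S M := by
    refine ⟨fun m => ?_⟩
    have hm : m ∈ Subfield.closure (Set.range i ∪ Set.range (algebraMap L M)) := hgen ▸ Subfield.mem_top m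
    induction hm using Subfield.closure_induction with
    | mem x hx =>
      rcases hx with ⟨z, rfl⟩ | ⟨l, rfl⟩
      · exact (Algebra.IsAlgebraic.isAlgebraic (R := Algebra.adjoin k (Set.range b)) z).ringHom_of_comp_eq
          r i hinjr (RingHom.ext fun _ => rfl)
      · exact isAlgebraic_algebraMap (⟨algebraMap L M l, S.algebraMap_mem l⟩ : S)
    | one => exact isAlgebraic_one
    | add x y _ _ hx hy => exact hx.add hy
    | neg x _ hx => exact hx.neg
    | inv x _ hx => exact hx.inv
    | mul x y _ _ hx hy => exact hx.mul hy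
  obtain ⟨t, ht, htb⟩ := exists_isTranscendenceBasis_subset (R := L) (Set.range (i ∘ b))
  rw [← htb.cardinalMk_eq_trdeg, ← hb.cardinalMk_eq_trdeg]
  exact (Cardinal.mk_le_mk_of_subset ht).trans Cardinal.mk_range_le

/-- Two extensions have a composite of the largest possible transcendence degree. -/
theorem exists_composite (k K L : Type u) [Field k] [Field K] [Field L] [Algebra k K] [Algebra k L] :
    ∃ (M : Type u) (_ : Field M) (i : K →+* M) (j : L →+* M),
      i.comp (algebraMap k K) = j.comp (algebraMap k L) ∧
      ∀ (M₀ : Type u) [Field M₀] [Algebra L M₀] (i₀ : K →+* M₀) (ψ : M₀ →+* M),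
        ψ.comp i₀ = i → ψ.comp (algebraMap L M₀) = j → Algebra.trdeg k K ≤ Algebra.trdeg L M₀ := by
  haveI : FaithfulSMul k K := (faithfulSMul_iff_algebraMap_injective _ _).mpr (algebraMap k K).injective
  obtain ⟨ι, b, hb⟩ := exists_isTranscendenceBasis' k K
  haveI := hb.isAlgebraic
  let M := AlgebraicClosure (FractionRing (MvPolynomial ι L))
  let jW : MvPolynomial ι L →+* M :=
    (algebraMap (FractionRing (MvPolynomial ι L)) M).comp (algebraMap _ _)
  have hjW : Function.Injective jW :=
    (algebraMap (FractionRing (MvPolynomial ι L)) M).injective.comp (IsFractionRing.injective _ _)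
  let e := hb.1.aevalEquiv
  let f₀ : Algebra.adjoin k (Set.range b) →+* M :=
    (jW.comp (MvPolynomial.map (algebraMap k L))).comp e.symm.toRingEquiv.toRingHom
  have hf₀ : Function.Injective f₀ :=
    (hjW.comp (MvPolynomial.map_injective _ (algebraMap k L).injective)).comp e.symm.injective
  letI algM : Algebra (Algebra.adjoin k (Set.range b)) M := f₀.toAlgebra
  haveI : FaithfulSMul (Algebra.adjoin k (Set.range b)) M :=
    (faithfulSMul_iff_algebraMap_injective _ _).mpr hf₀
  let i : K →ₐ[Algebra.adjoin k (Set.range b)] M := IsAlgClosed.lift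
  have hib : ∀ a, i (b a) = jW (MvPolynomial.X a) := fun a => by
    have hba : b a = algebraMap (Algebra.adjoin k (Set.range b)) K (e (MvPolynomial.X a)) :=
      ((hb.1.algebraMap_aevalEquiv (MvPolynomial.X a)).trans (MvPolynomial.aeval_X _ a)).symm
    rw [hba, i.commutes]
    show jW (MvPolynomial.map (algebraMap k L) (e.symm (e (MvPolynomial.X a)))) = _
    rw [e.symm_apply_apply, MvPolynomial.map_X]
  refine ⟨M, inferInstance, i.toRingHom, jW.comp MvPolynomial.C, RingHom.ext fun r => ?_, ?_⟩
  · have hr : algebraMap k K r = algebraMap (Algebra.adjoin k (Set.range b)) K (algebraMap k _ r) := rfl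
    show i (algebraMap k K r) = jW (MvPolynomial.C (algebraMap k L r))
    rw [hr, i.commutes]
    show jW (MvPolynomial.map (algebraMap k L) (e.symm (algebraMap k _ r))) = _
    rw [e.symm.commutes, MvPolynomial.algebraMap_eq, MvPolynomial.map_C]
  intro M₀ _ _ i₀ ψ h1 h2
  have hind : AlgebraicIndependent L fun a => i₀ (b a) := by
    intro p q hpq
    have key : ∀ p : MvPolynomial ι L, ψ (MvPolynomial.aeval (fun a => i₀ (b a)) p) = jW p := by
      intro p
      have : ψ.comp (MvPolynomial.aeval fun a => i₀ (b a)).toRingHom = jW := by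
        refine MvPolynomial.ringHom_ext (fun l => ?_) fun a => ?_
        · show ψ (MvPolynomial.aeval (fun a => i₀ (b a)) (MvPolynomial.C l)) = _
          rw [MvPolynomial.aeval_C]
          exact RingHom.congr_fun h2 l
        · show ψ (MvPolynomial.aeval (fun a => i₀ (b a)) (MvPolynomial.X a)) = _
          rw [MvPolynomial.aeval_X, ← hib a]
          exact RingHom.congr_fun h1 (b a)
      exact RingHom.congr_fun this p
    exact hjW (by rw [← key p, ← key q, hpq])
  rw [← hb.cardinalMk_eq_trdeg]
  exact hind.cardinalMk_le_trdeg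

end GrothLib.TrdegBC19
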