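import Groth.Agent.Lib.CMMor6.Algebra
import Groth.Agent.Lib.FlatOff.InfinitesimalMain
import Mathlib.RingTheory.Ideal.GoingDown

/-!
# Dimensions of primes over a prime along a flat local homomorphism with trivial closed fibre
-/

set_option autoImplicit false
set_option linter.style.haveILetI false

open IsLocalRing

namespace GrothLib.TrdegBC19

universe u

theorem exists_minimalPrimes_dim_le {S : Type u} [CommRing S] [IsLocalRing S] [IsNoetherianRing S]
    (J : Ideal S) [Nontrivial (S ⧸ J)] :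
    ∃ Q ∈ J.minimalPrimes, ringKrullDim (S ⧸ J) ≤ ringKrullDim (S ⧸ Q) := by
  haveI : IsLocalRing (S ⧸ J) := IsLocalRing.of_surjective' _ Ideal.Quotient.mk_surjective
  haveI : FiniteRingKrullDim (S ⧸ J) := inferInstance
  let l := LTSeries.longestOf (PrimeSpectrum (S ⧸ J))
  have hl : ringKrullDim (S ⧸ J) = l.length := Order.krullDim_eq_length_of_finiteDimensionalOrder
  obtain ⟨Q, hQ, hQl⟩ := Ideal.exists_minimalPrimes_le (I := J) (J := l.head.asIdeal.comap (Ideal.Quotient.mk J))
    (fun a ha => by rw [Ideal.mem_comap, Ideal.Quotient.eq_zero_iff_mem.2 ha]; exact zero_mem _)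
  haveI := hQ.1.1
  refine ⟨Q, hQ, ?_⟩
  have hle : ∀ i, Q ≤ (l i).asIdeal.comap (Ideal.Quotient.mk J) := fun i =>
    hQl.trans (Ideal.comap_mono (show l.head ≤ l i from l.monotone (Fin.zero_le _)))
  let l' : LTSeries (PrimeSpectrum (S ⧸ Q)) := LTSeries.mk l.length
    (fun i => ⟨((l i).asIdeal.comap (Ideal.Quotient.mk J)).map (Ideal.Quotient.mk Q),
      Ideal.map_isPrime_of_surjective Ideal.Quotient.mk_surjective (by rw [Ideal.mk_ker]; exact hle i)⟩)
    fun i j hij => by
      refine lt_of_le_not_ge (Ideal.map_mono (Ideal.comap_mono (l.monotone hij.le : l i ≤ l j))) fun h => ?_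
      refine not_le_of_gt (l.strictMono hij) (fun c hc => ?_)
      obtain ⟨c, rfl⟩ := Ideal.Quotient.mk_surjective c
      exact (Ideal.mem_quotient_iff_mem (hle i)).mp (h (Ideal.mem_map_of_mem _ (Ideal.mem_comap.2 hc)))
  rw [hl]
  exact Order.LTSeries.length_le_krullDim l'

variable (A A' : Type u) [CommRing A] [CommRing A'] [IsLocalRing A] [IsLocalRing A'] [IsNoetherianRing A]
  [IsNoetherianRing A'] [Algebra A A'] [Module.FaithfullyFlat A A']

/-- The extension of a prime has the same dimension. -/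
theorem ringKrullDim_quotient_map (hfib : ∀ q : Ideal A', ∀ _ : q.IsPrime,
      q.comap (algebraMap A A') = maximalIdeal A → q = maximalIdeal A') (p : Ideal A) [hp : p.IsPrime] :
    ringKrullDim (A' ⧸ p.map (algebraMap A A')) = ringKrullDim (A ⧸ p) ∧
      p.map (algebraMap A A') ≠ ⊤ := by
  haveI hloc : IsLocalHom (algebraMap A A') := by
    obtain ⟨q, hq, hqc⟩ : ∃ q : Ideal A', q.IsPrime ∧ q.comap (algebraMap A A') = maximalIdeal A := by
      obtain ⟨Q, hQ⟩ := PrimeSpectrum.comap_surjective_of_faithfullyFlat (A := A) (B := A') (IsLocalRing.closedPoint A)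
      exact ⟨Q.asIdeal, Q.2, congrArg PrimeSpectrum.asIdeal hQ⟩
    refine ((local_hom_TFAE (algebraMap A A')).out 4 0 rfl rfl).1 ?_
    rw [← hfib q hq hqc]
    exact hqc
  have hne : p.map (algebraMap A A') ≠ ⊤ := ne_top_of_le_ne_top (maximalIdeal.isMaximal A').ne_top
    ((Ideal.map_mono (le_maximalIdeal hp.ne_top)).trans
      (((local_hom_TFAE (algebraMap A A')).out 0 2 rfl rfl).1 hloc))
  refine ⟨?_, hne⟩
  haveI : Nontrivial (A' ⧸ p.map (algebraMap A A')) := Ideal.Quotient.nontrivial_iff.2 hne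
  haveI : IsLocalRing (A ⧸ p) := IsLocalRing.of_surjective' _ Ideal.Quotient.mk_surjective
  haveI : IsLocalRing (A' ⧸ p.map (algebraMap A A')) :=
    IsLocalRing.of_surjective' _ Ideal.Quotient.mk_surjective
  haveI : Module.Flat (A ⧸ p) (A' ⧸ p.map (algebraMap A A')) := GrothLib.FlatOff.flat_quot_map A A' p
  have hmapA : (maximalIdeal A).map (Ideal.Quotient.mk p) = maximalIdeal (A ⧸ p) :=
    IsLocalRing.map_maximalIdeal_of_surjective _ Ideal.Quotient.mk_surjective
  have hcomm : (algebraMap (A ⧸ p) (A' ⧸ p.map (algebraMap A A'))).comp (Ideal.Quotient.mk p) =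
      (Ideal.Quotient.mk _).comp (algebraMap A A') := rfl
  haveI : IsLocalHom (algebraMap (A ⧸ p) (A' ⧸ p.map (algebraMap A A'))) := by
    refine ((local_hom_TFAE _).out 2 0 rfl rfl).1 ?_
    rw [← hmapA, Ideal.map_map, hcomm, ← Ideal.map_map,
      ← IsLocalRing.map_maximalIdeal_of_surjective (Ideal.Quotient.mk (p.map (algebraMap A A')))
        Ideal.Quotient.mk_surjective]
    exact Ideal.map_mono (((local_hom_TFAE (algebraMap A A')).out 0 2 rfl rfl).1 hloc)
  rw [GrothLib.CMMor6.ringKrullDim_eq_add (A := A ⧸ p) (B := A' ⧸ p.map (algebraMap A A'))]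
  set K := (maximalIdeal (A ⧸ p)).map (algebraMap (A ⧸ p) (A' ⧸ p.map (algebraMap A A')))
  have hKne : K ≠ ⊤ := ne_top_of_le_ne_top (maximalIdeal.isMaximal _).ne_top
    (((local_hom_TFAE _).out 0 2 rfl rfl).1 ‹IsLocalHom (algebraMap (A ⧸ p) (A' ⧸ p.map (algebraMap A A')))›)
  haveI : Nontrivial ((A' ⧸ p.map (algebraMap A A')) ⧸ K) := Ideal.Quotient.nontrivial_iff.2 hKne
  have h0 : ringKrullDim ((A' ⧸ p.map (algebraMap A A')) ⧸ K) = 0 := by
    haveI : Ring.KrullDimLE 0 ((A' ⧸ p.map (algebraMap A A')) ⧸ K) := by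
      refine Ring.krullDimLE_zero_iff.2 fun Q hQ => ?_
      let q : Ideal A' := Q.comap ((Ideal.Quotient.mk K).comp (Ideal.Quotient.mk _))
      have hle : maximalIdeal A ≤ q.comap (algebraMap A A') := fun a ha => by
        show Ideal.Quotient.mk K (Ideal.Quotient.mk _ (algebraMap A A' a)) ∈ Q
        have hm : Ideal.Quotient.mk (p.map (algebraMap A A')) (algebraMap A A' a) ∈ K := by
          rw [← RingHom.comp_apply, ← hcomm]
          exact Ideal.mem_map_of_mem (algebraMap (A ⧸ p) (A' ⧸ p.map (algebraMap A A')))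
            (hmapA ▸ Ideal.mem_map_of_mem (Ideal.Quotient.mk p) ha)
        rw [Ideal.Quotient.eq_zero_iff_mem.2 hm]
        exact zero_mem _
      haveI : q.IsPrime := Ideal.IsPrime.comap _
      have hq := hfib q inferInstance ((maximalIdeal.isMaximal A).eq_of_le
        (Ideal.IsPrime.comap (algebraMap A A')).ne_top hle).symm
      haveI : q.IsMaximal := hq ▸ maximalIdeal.isMaximal A'
      have hg : Function.Surjective ((Ideal.Quotient.mk K).comp (Ideal.Quotient.mk (p.map (algebraMap A A')))) :=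
        Ideal.Quotient.mk_surjective.comp Ideal.Quotient.mk_surjective
      have hQ' : Q = q.map ((Ideal.Quotient.mk K).comp (Ideal.Quotient.mk (p.map (algebraMap A A')))) :=
        (Ideal.map_comap_of_surjective _ hg Q).symm
      rw [hQ']
      exact (Ideal.map_eq_top_or_isMaximal_of_surjective _ hg ‹q.IsMaximal›).resolve_left
        (fun h => hQ.ne_top (hQ'.trans h))
    exact ringKrullDimZero_iff_ringKrullDim_eq_zero.mp inferInstance
  rw [h0, add_zero]

variable {A A'}

theorem ringKrullDim_quotient_le_of_comap (hfib : ∀ q : Ideal A', ∀ _ : q.IsPrime,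
      q.comap (algebraMap A A') = maximalIdeal A → q = maximalIdeal A') (q : Ideal A') [q.IsPrime] (p : Ideal A)
    (h : q.comap (algebraMap A A') = p) :
    ringKrullDim (A' ⧸ q) ≤ ringKrullDim (A ⧸ p) := by
  haveI : p.IsPrime := h ▸ Ideal.IsPrime.comap _
  rw [← (ringKrullDim_quotient_map A A' hfib p).1]
  exact ringKrullDim_le_of_surjective _ (Ideal.Quotient.factor_surjective (Ideal.map_le_iff_le_comap.2 h.ge))

theorem exists_comap_ringKrullDim_eq (hfib : ∀ q : Ideal A', ∀ _ : q.IsPrime,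
      q.comap (algebraMap A A') = maximalIdeal A → q = maximalIdeal A') (p : Ideal A) [p.IsPrime] :
    ∃ q : Ideal A', q.IsPrime ∧ q.comap (algebraMap A A') = p ∧
      ringKrullDim (A' ⧸ q) = ringKrullDim (A ⧸ p) := by
  obtain ⟨hd, hne⟩ := ringKrullDim_quotient_map A A' hfib p
  haveI : Nontrivial (A' ⧸ p.map (algebraMap A A')) := Ideal.Quotient.nontrivial_iff.2 hne
  obtain ⟨Q, hQ, hQd⟩ := exists_minimalPrimes_dim_le (p.map (algebraMap A A'))
  haveI := hQ.1.1
  haveI : Q.LiesOver (Q.comap (algebraMap A A')) := ⟨rfl⟩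
  have hle : p ≤ Q.comap (algebraMap A A') := Ideal.map_le_iff_le_comap.1 hQ.1.2
  obtain ⟨P, hPQ, hP, hPp⟩ := Q.exists_ideal_le_liesOver_of_le (p := p) (q := Q.comap (algebraMap A A')) hle
  have hPp' : P.comap (algebraMap A A') = p := hPp.over.symm
  have hQp : Q.comap (algebraMap A A') = p := by
    rw [le_antisymm (hQ.2 ⟨hP, Ideal.map_le_iff_le_comap.2 hPp'.ge⟩ hPQ) hPQ, hPp']
  exact ⟨Q, inferInstance, hQp,
    le_antisymm (ringKrullDim_quotient_le_of_comap hfib Q p hQp) (hd ▸ hQd)⟩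

end GrothLib.TrdegBC19
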