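import Groth.Agent.Lib.TrdegBC19.Fields
import Mathlib.AlgebraicGeometry.PullbackCarrier
import Mathlib.AlgebraicGeometry.Morphisms.Preimmersion
import Mathlib.LinearAlgebra.TensorProduct.Basis
import Mathlib.RingTheory.TensorProduct.Basic

/-!
# Transcendence degrees at points of fibre products
-/

set_option autoImplicit false
set_option linter.style.haveILetI false

open CategoryTheory CategoryTheory.Limits AlgebraicGeometry
open scoped TensorProduct

namespace GrothLib.TrdegBC19

universe u

theorem spec_map_comp_aux {A B C D : CommRingCat.{u}} {S' : Scheme.{u}} (r : A ⟶ B) (q : B ⟶ C) (j : C ⟶ D)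
    (sA : Spec A ⟶ S') (sB : Spec B ⟶ S') (hr : Spec.map r ≫ sA = sB) :
    Spec.map ((r ≫ q) ≫ j) ≫ sA = Spec.map j ≫ Spec.map q ≫ sB := by
  simp only [Spec.map_comp, Category.assoc, hr]

/-- An epimorphic extension of fields is trivial. -/
theorem surjective_of_field_epi (F K : Type u) [Field F] [Field K] [Algebra F K]
    (h : ∀ (R : Type u) [CommRing R] (a b : K →+* R), a.comp (algebraMap F K) = b.comp (algebraMap F K) → a = b) :
    Function.Surjective (algebraMap F K) := by
  classical
  intro x
  by_contra! hx
  obtain ⟨φ, hφx, hφ⟩ := Submodule.exists_le_ker_of_notMem (p := (F ∙ (1 : K))) (v := x) (by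
    rw [Submodule.mem_span_singleton]
    rintro ⟨a, rfl⟩
    exact hx a (Algebra.algebraMap_eq_smul_one a))
  have hφ1 : φ 1 = 0 := LinearMap.mem_ker.mp (hφ (Submodule.mem_span_singleton_self 1))
  have heq := h (K ⊗[F] K) Algebra.TensorProduct.includeLeftRingHom
    Algebra.TensorProduct.includeRight.toRingHom (RingHom.ext fun a => by
      show (algebraMap F K a) ⊗ₜ[F] (1 : K) = (1 : K) ⊗ₜ[F] (algebraMap F K a)
      rw [Algebra.algebraMap_eq_smul_one, TensorProduct.smul_tmul])
  have h2 := congrArg ((TensorProduct.lid F K).toLinearMap ∘ₗ LinearMap.rTensor K φ) (RingHom.congr_fun heq x)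
  change TensorProduct.lid F K (φ x ⊗ₜ[F] (1 : K)) = TensorProduct.lid F K (φ 1 ⊗ₜ[F] x) at h2
  simp [hφ1] at h2
  exact hφx h2

variable {X Y S : Scheme.{u}} (f : X ⟶ S) (g : Y ⟶ S)

/-- The residue field of a point of a fibre product is generated by the residue fields of its projections. -/
theorem residueField_generated (z : ↥(pullback f g)) :
    Subfield.closure (Set.range ((pullback.fst f g).residueFieldMap z).hom ∪
      Set.range ((pullback.snd f g).residueFieldMap z).hom) = ⊤ := by
  let F := Subfield.closure (Set.range ((pullback.fst f g).residueFieldMap z).hom ∪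
      Set.range ((pullback.snd f g).residueFieldMap z).hom)
  have hepi : ∀ (R : Type u) [CommRing R] (a b : (pullback f g).residueField z →+* R),
      a.comp (algebraMap F ((pullback f g).residueField z)) = b.comp (algebraMap F ((pullback f g).residueField z)) →
        a = b := by
    intro R _ a b hab
    have hmem : ∀ w, w ∈ F → a w = b w := fun w hw => RingHom.congr_fun hab ⟨w, hw⟩
    have h : Scheme.Pullback.ofPointTensor z ≫ CommRingCat.ofHom a =
        Scheme.Pullback.ofPointTensor z ≫ CommRingCat.ofHom b := by
      refine pushout.hom_ext ?_ ?_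
      · dsimp only [Scheme.Pullback.ofPointTensor]
        erw [pushout.inl_desc_assoc, pushout.inl_desc_assoc]
        ext w
        exact hmem _ (Subfield.subset_closure (Or.inl ⟨w, rfl⟩))
      · dsimp only [Scheme.Pullback.ofPointTensor]
        erw [pushout.inr_desc_assoc, pushout.inr_desc_assoc]
        ext w
        exact hmem _ (Subfield.subset_closure (Or.inr ⟨w, rfl⟩))
    have h2 : Spec.map (CommRingCat.ofHom a) ≫ (pullback f g).fromSpecResidueField z =
        Spec.map (CommRingCat.ofHom b) ≫ (pullback f g).fromSpecResidueField z := by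
      rw [← Scheme.Pullback.ofPointTensor_SpecTensorTo, ← Category.assoc, ← Category.assoc, ← Spec.map_comp,
        ← Spec.map_comp]
      exact congrArg (fun t => Spec.map t ≫ (Scheme.Pullback.Triplet.ofPoint z).SpecTensorTo) h
    rw [cancel_mono, Spec.map_inj] at h2
    exact congrArg CommRingCat.Hom.hom h2
  refine eq_top_iff.mpr fun w _ => ?_
  obtain ⟨v, hv⟩ := surjective_of_field_epi F _ hepi w
  exact hv ▸ v.2

/-- The transcendence degree does not increase under base change. -/
theorem trdeg_snd_le_of_eq {x : X} {y : Y} (z : ↥(pullback f g)) (hx : (pullback.fst f g).base z = x)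
    (hy : (pullback.snd f g).base z = y) :
    @Algebra.trdeg ↑(Y.residueField y) ↑((pullback f g).residueField z) _ _
        ((Y.residueFieldCongr hy.symm).hom ≫ (pullback.snd f g).residueFieldMap z).hom.toAlgebra ≤
      @Algebra.trdeg ↑(S.residueField (f.base x)) ↑(X.residueField x) _ _ (f.residueFieldMap x).hom.toAlgebra := by
  subst hx hy
  have hw := Scheme.Pullback.residueFieldCongr_inv_residueFieldMap_ofPoint (f := f) (g := g) z
  have hfg : f.base ((pullback.fst f g).base z) = g.base ((pullback.snd f g).base z) := by
    rw [← Scheme.Hom.comp_apply, pullback.condition, Scheme.Hom.comp_apply]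
  letI := (f.residueFieldMap ((pullback.fst f g).base z)).hom.toAlgebra
  letI := ((S.residueFieldCongr hfg).hom ≫ g.residueFieldMap ((pullback.snd f g).base z)).hom.toAlgebra
  letI := ((Y.residueFieldCongr (rfl : (pullback.snd f g).base z = _)).hom ≫
    (pullback.snd f g).residueFieldMap z).hom.toAlgebra
  have hid : (Y.residueFieldCongr (rfl : (pullback.snd f g).base z = (pullback.snd f g).base z)).hom ≫
      (pullback.snd f g).residueFieldMap z = (pullback.snd f g).residueFieldMap z := by simp
  refine trdeg_le_of_composite ((pullback.fst f g).residueFieldMap z).hom ?_ ?_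
  · show (f.residueFieldMap _ ≫ (pullback.fst f g).residueFieldMap z).hom =
      (((S.residueFieldCongr hfg).hom ≫ g.residueFieldMap _) ≫
        ((Y.residueFieldCongr (rfl : (pullback.snd f g).base z = _)).hom ≫ (pullback.snd f g).residueFieldMap z)).hom
    rw [hid]
    refine congrArg CommRingCat.Hom.hom ?_
    rw [← Scheme.residueFieldMap_comp, Category.assoc, ← Scheme.residueFieldMap_comp,
      Scheme.Hom.residueFieldMap_congr pullback.condition]
    simp
  · show Subfield.closure (_ ∪ Set.range ((Y.residueFieldCongr (rfl : (pullback.snd f g).base z = _)).hom ≫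
      (pullback.snd f g).residueFieldMap z).hom) = ⊤
    rw [hid]
    exact residueField_generated f g z

/-- Over two points with the same image there is a point of the fibre product of maximal transcendence degree. -/
theorem exists_trdeg_ge (x : X) (y : Y) (h : f.base x = g.base y) :
    ∃ (z : ↥(pullback f g)) (hx : (pullback.fst f g).base z = x) (hy : (pullback.snd f g).base z = y),
      @Algebra.trdeg ↑(S.residueField (f.base x)) ↑(X.residueField x) _ _ (f.residueFieldMap x).hom.toAlgebra ≤
      @Algebra.trdeg ↑(Y.residueField y) ↑((pullback f g).residueField z) _ _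
        ((Y.residueFieldCongr hy.symm).hom ≫ (pullback.snd f g).residueFieldMap z).hom.toAlgebra := by
  letI := (f.residueFieldMap x).hom.toAlgebra
  letI := ((S.residueFieldCongr h).hom ≫ g.residueFieldMap y).hom.toAlgebra
  obtain ⟨M, _, i, j, hij, hM⟩ := exists_composite (S.residueField (f.base x)) (X.residueField x) (Y.residueField y)
  have hij' : f.residueFieldMap x ≫ CommRingCat.ofHom i =
      ((S.residueFieldCongr h).hom ≫ g.residueFieldMap y) ≫ CommRingCat.ofHom j := CommRingCat.hom_ext hij
  let a : Spec (CommRingCat.of M) ⟶ X := Spec.map (CommRingCat.ofHom i) ≫ X.fromSpecResidueField x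
  let b : Spec (CommRingCat.of M) ⟶ Y := Spec.map (CommRingCat.ofHom j) ≫ Y.fromSpecResidueField y
  have hab : a ≫ f = b ≫ g := by
    simp only [a, b, Category.assoc]
    rw [← Scheme.Hom.SpecMap_residueFieldMap_fromSpecResidueField f x,
      ← Scheme.Hom.SpecMap_residueFieldMap_fromSpecResidueField g y, ← Category.assoc, ← Spec.map_comp]
    erw [hij']
    exact spec_map_comp_aux _ _ _ _ _ (Scheme.residueFieldCongr_fromSpecResidueField h)
  let c := pullback.lift a b hab
  let o : Spec (CommRingCat.of M) := IsLocalRing.closedPoint M
  have hx : (pullback.fst f g).base (c.base o) = x := by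
    rw [← Scheme.Hom.comp_apply, pullback.lift_fst]
    exact Scheme.fromSpecResidueField_apply x _
  have hy : (pullback.snd f g).base (c.base o) = y := by
    rw [← Scheme.Hom.comp_apply, pullback.lift_snd]
    exact Scheme.fromSpecResidueField_apply y _
  refine ⟨c.base o, hx, hy, ?_⟩
  let ψ : (pullback f g).residueField (c.base o) ⟶ CommRingCat.of M := Scheme.descResidueField (Scheme.stalkClosedPointTo c)
  have hψ : Spec.map ψ ≫ (pullback f g).fromSpecResidueField (c.base o) = c :=
    Scheme.descResidueField_stalkClosedPointTo_fromSpecResidueField M (pullback f g) c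
  letI := ((Y.residueFieldCongr hy.symm).hom ≫ (pullback.snd f g).residueFieldMap (c.base o)).hom.toAlgebra
  refine hM _ ((X.residueFieldCongr hx.symm).hom ≫ (pullback.fst f g).residueFieldMap (c.base o)).hom ψ.hom ?_ ?_
  · show (((X.residueFieldCongr hx.symm).hom ≫ (pullback.fst f g).residueFieldMap (c.base o)) ≫ ψ).hom = i
    have : ((X.residueFieldCongr hx.symm).hom ≫ (pullback.fst f g).residueFieldMap (c.base o)) ≫ ψ =
        CommRingCat.ofHom i := by
      apply Spec.map_injective
      rw [← cancel_mono (X.fromSpecResidueField x)]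
      simp only [Spec.map_comp, Category.assoc, Scheme.residueFieldCongr_fromSpecResidueField,
        Scheme.Hom.SpecMap_residueFieldMap_fromSpecResidueField]
      rw [reassoc_of% hψ]
      exact pullback.lift_fst a b hab
    rw [this]; rfl
  · show (((Y.residueFieldCongr hy.symm).hom ≫ (pullback.snd f g).residueFieldMap (c.base o)) ≫ ψ).hom = j
    have : ((Y.residueFieldCongr hy.symm).hom ≫ (pullback.snd f g).residueFieldMap (c.base o)) ≫ ψ =
        CommRingCat.ofHom j := by
      apply Spec.map_injective
      rw [← cancel_mono (Y.fromSpecResidueField y)]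
      simp only [Spec.map_comp, Category.assoc, Scheme.residueFieldCongr_fromSpecResidueField,
        Scheme.Hom.SpecMap_residueFieldMap_fromSpecResidueField]
      rw [reassoc_of% hψ]
      exact pullback.lift_snd a b hab
    rw [this]; rfl

end GrothLib.TrdegBC19
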